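import Groth.Agent.Etdl.H428.SmLim
import Groth.Agent.S0672

/-!
# Regular base change

For a regular homomorphism `R → L` of Noetherian rings (or an ind-smooth `R`-algebra `L`), a qcqs
morphism `f : X ⟶ Spec R` and a sheaf `F` on `X` with torsion orders invertible on `Spec R`, the higher direct
images of `F` commute with the base change `Spec L ⟶ Spec R` (Popescu S0595 + base change for limits of
smooth schemes S0672).
-/

set_option autoImplicit false

universe u

open CategoryTheory CategoryTheory.Limits AlgebraicGeometry Opposite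

namespace Groth.Agent.Etdl.H428.RegBC

open SmLim

/-- Base change along a directed limit of smooth schemes (with affine transition morphisms). -/
theorem baseChange_of_isSmLim {S' S : Scheme.{u}} {g : S' ⟶ S} (hg : IsSmLim g) {X X' : Scheme.{u}}
    (f : X ⟶ S) [QuasiCompact f] [QuasiSeparated f] (f' : X' ⟶ S') (g' : X' ⟶ X)
    (hsq : IsPullback g' f' f g) (F : EtCoh.Ab X) (hF : EtPBC.IsTorsionInvertibleOn S F) (q : ℕ) :
    Nonempty ((EtCoh.pull g).obj ((EtCoh.Rpush f q).obj F) ≅ (EtCoh.Rpush f' q).obj ((EtCoh.pull g').obj F)) ∧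
      IsIso (EtCoh.baseChange0 f g f' g' hsq.w F) := by
  obtain ⟨ι, _, _, _, D, π, hc, h1, h2, h3⟩ := hg
  exact Groth.Agent.S0672.result D h1 h2 (Cone.mk S' π) hc g h3 f f' g' hsq F hF q

/-- Base change along an ind-smooth homomorphism. -/
theorem baseChange_of_indSmooth {R L : Type u} [CommRing R] [CommRing L] [Algebra R L]
    (h : Smoothing.IndSmooth R L) {X X' : Scheme.{u}}
    (f : X ⟶ Spec (CommRingCat.of R)) [QuasiCompact f] [QuasiSeparated f]
    (f' : X' ⟶ Spec (CommRingCat.of L)) (g' : X' ⟶ X)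
    (hsq : IsPullback g' f' f (Spec.map (CommRingCat.ofHom (algebraMap R L)))) (F : EtCoh.Ab X)
    (hF : EtPBC.IsTorsionInvertibleOn (Spec (CommRingCat.of R)) F) (q : ℕ) :
    Nonempty ((EtCoh.pull (Spec.map (CommRingCat.ofHom (algebraMap R L)))).obj ((EtCoh.Rpush f q).obj F) ≅
        (EtCoh.Rpush f' q).obj ((EtCoh.pull g').obj F)) ∧
      IsIso (EtCoh.baseChange0 f (Spec.map (CommRingCat.ofHom (algebraMap R L))) f' g' hsq.w F) :=
  baseChange_of_isSmLim (isSmLim_specMap_of_indSmooth h) f f' g' hsq F hF q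

/-- Base change along a regular homomorphism of Noetherian rings. -/
theorem baseChange_of_isRegularHom {R L : Type u} [CommRing R] [CommRing L] [IsNoetherianRing R]
    [IsNoetherianRing L] [Algebra R L] (h : CAlg.IsRegularHom R L) {X X' : Scheme.{u}}
    (f : X ⟶ Spec (CommRingCat.of R)) [QuasiCompact f] [QuasiSeparated f]
    (f' : X' ⟶ Spec (CommRingCat.of L)) (g' : X' ⟶ X)
    (hsq : IsPullback g' f' f (Spec.map (CommRingCat.ofHom (algebraMap R L)))) (F : EtCoh.Ab X)
    (hF : EtPBC.IsTorsionInvertibleOn (Spec (CommRingCat.of R)) F) (q : ℕ) :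
    Nonempty ((EtCoh.pull (Spec.map (CommRingCat.ofHom (algebraMap R L)))).obj ((EtCoh.Rpush f q).obj F) ≅
        (EtCoh.Rpush f' q).obj ((EtCoh.pull g').obj F)) ∧
      IsIso (EtCoh.baseChange0 f (Spec.map (CommRingCat.ofHom (algebraMap R L))) f' g' hsq.w F) :=
  baseChange_of_indSmooth (indSmooth_of_isRegularHom h) f f' g' hsq F hF q

/-- The same over an arbitrary base `S ⟶ Spec R`: base change along `S ×_R L ⟶ S`. -/
theorem baseChange_over_of_indSmooth {R L : Type u} [CommRing R] [CommRing L] [Algebra R L]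
    (h : Smoothing.IndSmooth R L) {S S' X X' : Scheme.{u}}
    (b : S ⟶ Spec (CommRingCat.of R)) (b' : S' ⟶ Spec (CommRingCat.of L)) (g : S' ⟶ S)
    (hS : IsPullback g b' b (Spec.map (CommRingCat.ofHom (algebraMap R L))))
    (f : X ⟶ S) [QuasiCompact f] [QuasiSeparated f] (f' : X' ⟶ S') (g' : X' ⟶ X)
    (hsq : IsPullback g' f' f g) (F : EtCoh.Ab X) (hF : EtPBC.IsTorsionInvertibleOn S F) (q : ℕ) :
    Nonempty ((EtCoh.pull g).obj ((EtCoh.Rpush f q).obj F) ≅ (EtCoh.Rpush f' q).obj ((EtCoh.pull g').obj F)) ∧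
      IsIso (EtCoh.baseChange0 f g f' g' hsq.w F) :=
  baseChange_of_isSmLim ((isSmLim_specMap_of_indSmooth h).of_isPullback hS) f f' g' hsq F hF q

/-- The same over an arbitrary base `S ⟶ Spec R` for a regular homomorphism. -/
theorem baseChange_over_of_isRegularHom {R L : Type u} [CommRing R] [CommRing L] [IsNoetherianRing R]
    [IsNoetherianRing L] [Algebra R L] (h : CAlg.IsRegularHom R L) {S S' X X' : Scheme.{u}}
    (b : S ⟶ Spec (CommRingCat.of R)) (b' : S' ⟶ Spec (CommRingCat.of L)) (g : S' ⟶ S)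
    (hS : IsPullback g b' b (Spec.map (CommRingCat.ofHom (algebraMap R L))))
    (f : X ⟶ S) [QuasiCompact f] [QuasiSeparated f] (f' : X' ⟶ S') (g' : X' ⟶ X)
    (hsq : IsPullback g' f' f g) (F : EtCoh.Ab X) (hF : EtPBC.IsTorsionInvertibleOn S F) (q : ℕ) :
    Nonempty ((EtCoh.pull g).obj ((EtCoh.Rpush f q).obj F) ≅ (EtCoh.Rpush f' q).obj ((EtCoh.pull g').obj F)) ∧
      IsIso (EtCoh.baseChange0 f g f' g' hsq.w F) :=
  baseChange_over_of_indSmooth (indSmooth_of_isRegularHom h) b b' g hS f f' g' hsq F hF q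

end Groth.Agent.Etdl.H428.RegBC
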