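import Groth.Agent.Etdl.H428.RegPar2
import Groth.Agent.CalgB.PowField
import Mathlib.RingTheory.MvPowerSeries.Derivative
import Mathlib.RingTheory.Henselian
import Mathlib.FieldTheory.IsSepClosed
import Mathlib.Algebra.Category.Ring.Constructions

/-!
# Power series rings: `k₀[t] → k[[x]]`, `t ↦ x_i`

* `henselian` : `K[[x]]` is henselian; its residue field is separably closed if `K` is.
* `isRegularHom` : `k₀[t] → K[[x_1, ..., x_d]]`, `t ↦ x_i`, is a regular homomorphism for `k₀` perfect.
-/

set_option autoImplicit false
universe u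

namespace Groth.Agent.Etdl.H428.PowSer

open IsLocalRing MvPowerSeries

variable (K : Type u) [Field K] (d : ℕ)

instance henselian : HenselianLocalRing (MvPowerSeries (Fin d) K) := by
  have := Groth.Agent.CalgB.PowField.isAdicComplete K d
  have h : HenselianRing (MvPowerSeries (Fin d) K) (maximalIdeal (MvPowerSeries (Fin d) K)) := inferInstance
  exact { is_henselian := fun f hf a₀ h1 h2 => by
            have h3 : IsUnit (Ideal.Quotient.mk (maximalIdeal (MvPowerSeries (Fin d) K))
              (f.derivative.eval a₀)) := h2.map _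
            exact h.is_henselian f hf a₀ h1 h3 }

theorem residue_surjective' : Function.Surjective
    (algebraMap K (ResidueField (MvPowerSeries (Fin d) K))) := by
  intro x
  obtain ⟨y, rfl⟩ := residue_surjective x
  refine ⟨constantCoeff y, ?_⟩
  have h1 : algebraMap K (ResidueField (MvPowerSeries (Fin d) K)) (constantCoeff y) =
      residue _ (C (constantCoeff y)) := rfl
  rw [h1, ← sub_eq_zero, ← map_sub, residue_eq_zero_iff, mem_maximalIdeal, mem_nonunits_iff,
    MvPowerSeries.isUnit_iff_constantCoeff, map_sub, constantCoeff_C, sub_self]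
  exact not_isUnit_zero

/-- The residue field of `K[[x]]` is `K`. -/
noncomputable def residueEquiv : K ≃+* ResidueField (MvPowerSeries (Fin d) K) :=
  RingEquiv.ofBijective (algebraMap K (ResidueField (MvPowerSeries (Fin d) K)))
    ⟨(algebraMap K _).injective, residue_surjective' K d⟩

theorem isSepClosed_residueField [IsSepClosed K] :
    IsSepClosed (ResidueField (MvPowerSeries (Fin d) K)) := by
  refine ⟨fun p hp => ?_⟩
  let e := residueEquiv K d
  have h1 : (p.map (e.symm : ResidueField (MvPowerSeries (Fin d) K) →+* K)).Splits :=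
    IsSepClosed.splits_of_separable _ (hp.map)
  have h2 := h1.map (e : K →+* ResidueField (MvPowerSeries (Fin d) K))
  rw [Polynomial.map_map] at h2
  simpa using h2

section Regular

variable (k₀ : Type u) [Field k₀] [PerfectField k₀] [Algebra k₀ K] (i : Fin d)

/-- The `k₀[t]`-algebra structure `t ↦ x_i` on `K[[x]]`. -/
@[reducible] noncomputable def alg : Algebra (Polynomial k₀) (MvPowerSeries (Fin d) K) :=
  (Polynomial.aeval (R := k₀) (X i : MvPowerSeries (Fin d) K)).toRingHom.toAlgebra

/-- `k₀[t] → K[[x_1, ..., x_d]]`, `t ↦ x_i`, is a regular homomorphism for `k₀` perfect. -/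
theorem isRegularHom : @CAlg.IsRegularHom (Polynomial k₀) _ (MvPowerSeries (Fin d) K) _ (alg K d k₀ i) := by
  let _ := alg K d k₀ i
  have hX : algebraMap (Polynomial k₀) (MvPowerSeries (Fin d) K) Polynomial.X = X i :=
    Polynomial.aeval_X _
  have : IsScalarTower k₀ (Polynomial k₀) (MvPowerSeries (Fin d) K) := .of_algebraMap_eq fun a =>
    (Polynomial.aeval_C (X i : MvPowerSeries (Fin d) K) a).symm
  refine RegPar.isRegularHom_of_derivation (F := k₀) (A := MvPowerSeries (Fin d) K)
    ((pderiv K i).restrictScalars k₀) ?_ ?_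
  · rw [hX]
    exact pderiv_X_self
  · rw [hX, mem_maximalIdeal, mem_nonunits_iff, MvPowerSeries.isUnit_iff_constantCoeff,
      constantCoeff_X]
    exact not_isUnit_zero

end Regular

end Groth.Agent.Etdl.H428.PowSer
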