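import Groth.Agent.Etbc.H227.CdIso
import Groth.Agent.CalgB.PowField
import Mathlib.AlgebraicGeometry.ResidueField
import Mathlib.AlgebraicGeometry.Noetherian
import Mathlib.RingTheory.MvPowerSeries.NoZeroDivisors

/-!
# The lower bound for the cohomological dimension of `Frac k[[x₁, …, x_m]]`

The lower half of S3737, deduced from the statement of S3488.
-/

set_option autoImplicit false
universe u

open CategoryTheory CategoryTheory.Limits AlgebraicGeometry Opposite TopologicalSpace

namespace Groth.Agent.Etdl.H428.CdLower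

open Groth.Agent Groth.Agent.Etbc.H227

/-- The residue field of the spectrum of a domain at its generic point. -/
theorem exists_ringEquiv_of_eq_bot (A : Type u) [CommRing A] [IsDomain A]
    (x : Spec (CommRingCat.of A)) (hx : x.asIdeal = ⊥) :
    Nonempty ((Spec (CommRingCat.of A)).residueField x ≃+* FractionRing A) := by
  let e2 : (Spec (CommRingCat.of A)).residueField x ≃+* x.asIdeal.ResidueField :=
    (Scheme.Spec.residueFieldIso (CommRingCat.of A) x).commRingCatIsoToRingEquiv
  let e0 : A ≃+* (A ⧸ x.asIdeal) :=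
    (RingEquiv.quotientBot A).symm.trans (Ideal.quotEquivOfEq hx.symm)
  let e3 : FractionRing A ≃+* x.asIdeal.ResidueField :=
    IsFractionRing.ringEquivOfRingEquiv e0
  exact ⟨e2.trans e3.symm⟩

/-- A maximal point of the spectrum of a domain is its generic point. -/
theorem eq_bot_of_mem_irreducibleComponents (A : Type u) [CommRing A] [IsDomain A]
    (x : Spec (CommRingCat.of A))
    (hx : closure {x} ∈ irreducibleComponents (Spec (CommRingCat.of A) : Type u)) :
    x.asIdeal = ⊥ := by
  let y : PrimeSpectrum A := x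
  have h1 : closure {y} ∈ irreducibleComponents (PrimeSpectrum A) := hx
  have h2 : y.asIdeal ∈ minimalPrimes A := by
    rw [PrimeSpectrum.closure_singleton, PrimeSpectrum.zeroLocus_ideal_mem_irreducibleComponents,
      y.isPrime.radical] at h1
    exact h1
  rw [IsDomain.minimalPrimes_eq_singleton_bot] at h2
  exact h2

/-- The statement of S3488. -/
def StmtS3488 : Prop :=
  ∀ (X : Scheme.{u}) [IsNoetherian X] (ℓ : ℕ) (_ : ℓ.Prime)
    (_ : Dix.InvertibleOn X ℓ) (d : ℕ)
    (_ : ∀ x : X, closure {x} ∈ irreducibleComponents (X : Type u) →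
      Dix.CohDimLEAt (Spec (X.residueField x)) ℓ d),
    topologicalKrullDim X ≤ d

/-- `cd_ℓ(Frac A) ≥ dim A` for a Noetherian domain `A` in which `ℓ` is invertible. -/
theorem ringKrullDim_le (h88 : StmtS3488.{u}) (A : Type u) [CommRing A] [IsDomain A]
    [IsNoetherianRing A] (ℓ : ℕ) (hℓ : ℓ.Prime) (hu : IsUnit (ℓ : A)) (d : ℕ)
    (h : Dix.CohDimLEAt (Spec (CommRingCat.of (FractionRing A))) ℓ d) :
    ringKrullDim A ≤ d := by
  have : IsNoetherianRing (CommRingCat.of A) := ‹IsNoetherianRing A›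
  have hX := h88 (Spec (CommRingCat.of A)) ℓ hℓ ?_ d ?_
  · rw [← PrimeSpectrum.topologicalKrullDim_eq_ringKrullDim A]
    exact hX
  · intro x
    let e2 : (Spec (CommRingCat.of A)).residueField x ≃+* x.asIdeal.ResidueField :=
      (Scheme.Spec.residueFieldIso (CommRingCat.of A) x).commRingCatIsoToRingEquiv
    have h1 : IsUnit ((ℓ : ℕ) : x.asIdeal.ResidueField) := by
      have := hu.map (algebraMap A x.asIdeal.ResidueField)
      rwa [map_natCast] at this
    intro h0
    apply h1.ne_zero
    rw [← map_natCast e2 ℓ, h0, map_zero]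
  · intro x hx
    obtain ⟨e⟩ := exists_ringEquiv_of_eq_bot A x (eq_bot_of_mem_irreducibleComponents A x hx)
    exact CdIso.cohDimLEAt_of_ringEquiv e.symm ℓ d h

/-- An `ℓ`-primary torsion sheaf is torsion, so `cd ≤ d` implies `cd_ℓ ≤ d`. -/
theorem cohDimLEAt_of_cohDimLE {X : Scheme.{u}} {d : ℕ} (h : EtCoh.CohDimLE X d) (ℓ : ℕ)
    (hℓ : ℓ ≠ 0) : Dix.CohDimLEAt X ℓ d := by
  intro F hF q hq
  refine h F ?_ q hq
  intro U s x
  obtain ⟨V, g, hv, k, hk⟩ := hF U s x
  refine ⟨V, g, hv, ?_⟩
  rw [isOfFinAddOrder_iff_nsmul_eq_zero]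
  exact ⟨ℓ ^ k, pow_pos (Nat.pos_of_ne_zero hℓ) k, hk⟩

/-- **Lower half of S3737**, from the statement of S3488. -/
theorem not_cohDimLE (h88 : StmtS3488.{u}) (k : Type u) [Field k] [CharZero k] (m : ℕ)
    (hm : 0 < m) :
    ¬ EtCoh.CohDimLE (Spec (CommRingCat.of (FractionRing (MvPowerSeries (Fin m) k)))) (m - 1) := by
  intro h
  have : IsDomain (MvPowerSeries (Fin m) k) := NoZeroDivisors.to_isDomain _
  have h1 := cohDimLEAt_of_cohDimLE h 2 two_ne_zero
  have hu : IsUnit ((2 : ℕ) : MvPowerSeries (Fin m) k) := by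
    have h2 : IsUnit ((2 : ℕ) : k) := isUnit_iff_ne_zero.2 (Nat.cast_ne_zero.2 two_ne_zero)
    have h3 := h2.map (algebraMap k (MvPowerSeries (Fin m) k))
    rwa [map_natCast] at h3
  have h4 := ringKrullDim_le h88 (MvPowerSeries (Fin m) k) 2 Nat.prime_two hu (m - 1) h1
  rw [Groth.Agent.CalgB.PowField.ringKrullDim_eq k m] at h4
  have h5 : m ≤ m - 1 := by exact_mod_cast h4
  omega

end Groth.Agent.Etdl.H428.CdLower
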