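import Groth.Agent.Etdl.H436.AlgMain
import Groth.Agent.Etdl.H436.CoordChange
import Groth.Agent.CalgB.PowField
import Mathlib.FieldTheory.PrimitiveElement
import Mathlib.FieldTheory.Minpoly.IsIntegrallyClosed
import Mathlib.RingTheory.Localization.Integral

/-!
# Finitely generated subalgebras of finite extensions of `Frac k[[x_1, …, x_{m+1}]]`

Every finitely generated subalgebra of a finite separable extension `E` of `Frac k[[x_1, …, x_{m+1}]]`
is contained in the image of an injection `R[[X]] ⊗_{R[X]} L₀ → E`, `R = k[[x_1, …, x_m]]`,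
`L₀` a finite algebra over `Frac R[X]`.
-/

set_option autoImplicit false

universe u

open Polynomial IsLocalRing TensorProduct

namespace Groth.Agent.Etdl.H428.CdUpAlg

section Denominators

variable (B K : Type u) [CommRing B] [IsDomain B] [Field K] [Algebra B K] [IsFractionRing B K]

/-- Clearing denominators. -/
theorem exists_poly (p' : K[X]) : ∃ (g : B) (p : B[X]), g ≠ 0 ∧
    p.map (algebraMap B K) = C (algebraMap B K g) * p' := by
  obtain ⟨b, hbm, hb⟩ := IsLocalization.integerNormalization_spec (nonZeroDivisors B) p'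
  refine ⟨b, _, nonZeroDivisors.ne_zero hbm, hb.trans ?_⟩
  rw [← algebraMap_smul K b p', Polynomial.smul_eq_C_mul]

variable (E : Type u) [Field E] [Algebra K E] [Algebra B E] [IsScalarTower B K E]
  [FiniteDimensional K E]

theorem exists_poly_elem (θ : E) (hθ : IntermediateField.adjoin K {θ} = ⊤) (s : E) :
    ∃ (g : B) (p : B[X]), g ≠ 0 ∧ s * algebraMap B E g = aeval θ p := by
  have h1 : s ∈ (IntermediateField.adjoin K {θ}).toSubalgebra := by
    rw [hθ]
    trivial
  rw [IntermediateField.adjoin_simple_toSubalgebra_of_isAlgebraic (Algebra.IsAlgebraic.isAlgebraic θ),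
    Algebra.adjoin_singleton_eq_range_aeval] at h1
  obtain ⟨p', hp'⟩ := h1
  obtain ⟨g, p, hg, hp⟩ := exists_poly B K p'
  refine ⟨g, p, hg, ?_⟩
  have h2 := congrArg (aeval θ) hp
  rw [aeval_map_algebraMap, map_mul, aeval_C, ← IsScalarTower.algebraMap_apply] at h2
  rw [h2, mul_comm]
  congr 1
  exact hp'.symm

theorem exists_denominators [IsIntegrallyClosed B] [Algebra.IsSeparable K E] (S : Finset E) (t : B)
    (ht : t ≠ 0) :
    ∃ (θ : E) (P a b : B[X]) (g : B), P.Monic ∧ aeval θ P = 0 ∧ P.natDegree = Module.finrank K E ∧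
      IntermediateField.adjoin K {θ} = ⊤ ∧ a * P + b * derivative P = C g ∧ g ≠ 0 ∧ t ∣ g ∧
      ∀ s ∈ S, ∃ p : B[X], s * algebraMap B E g = aeval θ p := by
  classical
  obtain ⟨α, hα⟩ := Field.exists_primitive_element K E
  have halg : Algebra.IsAlgebraic B E := (IsFractionRing.comap_isAlgebraic_iff (A := B) (K := K)).2
    inferInstance
  obtain ⟨d, hd0, hint⟩ := (Algebra.IsAlgebraic.isAlgebraic (R := B) α).exists_integral_multiple
  have hd : algebraMap B K d ≠ 0 := by
    rwa [Ne, FaithfulSMul.algebraMap_eq_zero_iff]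
  let θ : E := d • α
  have hθα : θ = algebraMap K E (algebraMap B K d) * α := by
    rw [← IsScalarTower.algebraMap_apply, ← Algebra.smul_def]
  have hθ : IntermediateField.adjoin K {θ} = ⊤ := by
    rw [eq_top_iff, ← hα, IntermediateField.adjoin_simple_le_iff]
    have h1 : α = algebraMap K E (algebraMap B K d)⁻¹ * θ := by
      rw [hθα, ← mul_assoc, ← map_mul, inv_mul_cancel₀ hd, map_one, one_mul]
    rw [h1]
    exact mul_mem (IntermediateField.algebraMap_mem _ _) (IntermediateField.mem_adjoin_simple_self K θ)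
  have hmin : minpoly K θ = (minpoly B θ).map (algebraMap B K) :=
    minpoly.isIntegrallyClosed_eq_field_fractions' K hint
  have hdeg : (minpoly K θ).natDegree = Module.finrank K E :=
    (Field.primitive_element_iff_minpoly_natDegree_eq K θ).1 hθ
  obtain ⟨a', b', hab⟩ : (minpoly K θ).Separable := Algebra.IsSeparable.isSeparable K θ
  obtain ⟨ga, a, hga, ha⟩ := exists_poly B K a'
  obtain ⟨gb, b, hgb, hb⟩ := exists_poly B K b'
  choose gs ps hgs hps using exists_poly_elem B K E θ hθ
  refine ⟨θ, minpoly B θ, C (t * gb * ∏ s ∈ S, gs s) * a, C (t * ga * ∏ s ∈ S, gs s) * b,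
    t * (ga * gb * ∏ s ∈ S, gs s), minpoly.monic hint, minpoly.aeval B θ, ?_, hθ, ?_, ?_,
    dvd_mul_right _ _, ?_⟩
  · rw [← hdeg, hmin, (minpoly.monic hint).natDegree_map]
  · apply Polynomial.map_injective (algebraMap B K) (FaithfulSMul.algebraMap_injective B K)
    rw [Polynomial.map_add, Polynomial.map_mul, Polynomial.map_mul, Polynomial.map_mul,
      Polynomial.map_mul, ha, hb, ← derivative_map, ← hmin, map_C, map_C, map_C]
    simp only [map_mul]
    have h2 : ∀ x y z w p q v v' : K[X], x * y * z * (w * p) * v + x * w * z * (y * q) * v' =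
        x * (w * y * z) * (p * v + q * v') := fun _ _ _ _ _ _ _ _ => by ring
    rw [h2, hab, mul_one]
  · exact mul_ne_zero ht (mul_ne_zero (mul_ne_zero hga hgb) (Finset.prod_ne_zero_iff.2 fun s _ => hgs s))
  · intro s hs
    refine ⟨C (t * (ga * gb) * ∏ s' ∈ S.erase s, gs s') * ps s, ?_⟩
    rw [map_mul (aeval θ), aeval_C, ← hps s, ← Finset.mul_prod_erase S gs hs]
    simp only [map_mul]
    ring

end Denominators

variable (k : Type u) [Field k] [Infinite k] (m : ℕ)

local notation "B" => MvPowerSeries (Fin (m + 1)) k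
local notation "R" => MvPowerSeries (Fin m) k

/-- **Algebraization.** -/
theorem exists_tensor_model (K : Type u) [Field K] [Algebra (MvPowerSeries (Fin (m + 1)) k) K]
    [IsFractionRing (MvPowerSeries (Fin (m + 1)) k) K] (E : Type u) [Field E] [Algebra K E]
    [Algebra (MvPowerSeries (Fin (m + 1)) k) E] [IsScalarTower (MvPowerSeries (Fin (m + 1)) k) K E]
    [FiniteDimensional K E] [Algebra.IsSeparable K E] (S : Finset E) :
    ∃ (L₀ : Type u) (_ : CommRing L₀) (_ : Algebra (FractionRing (MvPowerSeries (Fin m) k)[X]) L₀)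
      (_ : Algebra (MvPowerSeries (Fin m) k)[X] L₀)
      (_ : IsScalarTower (MvPowerSeries (Fin m) k)[X] (FractionRing (MvPowerSeries (Fin m) k)[X]) L₀)
      (_ : Module.Finite (FractionRing (MvPowerSeries (Fin m) k)[X]) L₀)
      (φ : (PowerSeries (MvPowerSeries (Fin m) k)) ⊗[(MvPowerSeries (Fin m) k)[X]] L₀ →+* E),
        Function.Injective φ ∧ (∀ b : MvPowerSeries (Fin (m + 1)) k, algebraMap _ E b ∈ φ.range) ∧
        ∀ s ∈ S, s ∈ φ.range := by
  have hreg : IsRegularLocalRing B := Groth.Agent.CalgB.PowField.isRegularLocalRing k (m + 1)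
  have hregR : IsRegularLocalRing R := Groth.Agent.CalgB.PowField.isRegularLocalRing k m
  have hdom : IsDomain B := NoZeroDivisors.to_isDomain _
  have hdomR : IsDomain R := NoZeroDivisors.to_isDomain _
  have hic : IsIntegrallyClosed B := Groth.Agent.CalgB.PowSer.isIntegrallyClosed_mvPowerSeries k (m + 1)
  have hcR : IsAdicComplete (maximalIdeal R) R := Groth.Agent.CalgB.PowField.isAdicComplete k m
  let t : B := MvPowerSeries.X 0
  have ht : t ≠ 0 := fun h => by
    have h1 := congrArg (MvPowerSeries.coeff (Finsupp.single (0 : Fin (m + 1)) 1)) h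
    rw [MvPowerSeries.coeff_index_single_self_X, map_zero] at h1
    exact one_ne_zero h1
  have htm : t ∈ maximalIdeal B := by
    rw [mem_maximalIdeal, mem_nonunits_iff, MvPowerSeries.isUnit_iff_constantCoeff,
      MvPowerSeries.constantCoeff_X]
    exact not_isUnit_zero
  obtain ⟨θ, P, a, b, g, hP, hθ, hdeg, hgen, hab, hg0, ⟨g', hg'⟩, hS⟩ :=
    exists_denominators B K E S t ht
  obtain ⟨e, he⟩ := Groth.Agent.Etdl.H436.CoordChange.exists_coordChange g hg0
  let eK : PowerSeries R ≃+* B := e.symm.toRingEquiv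
  let _ : Algebra (PowerSeries R) K := ((algebraMap B K).comp (eK : PowerSeries R →+* B)).toAlgebra
  let _ : Algebra (PowerSeries R) E := ((algebraMap B E).comp (eK : PowerSeries R →+* B)).toAlgebra
  have hK : ∀ x, algebraMap (PowerSeries R) K x = algebraMap B K (e.symm x) := fun _ => rfl
  have hE : ∀ x, algebraMap (PowerSeries R) E x = algebraMap B E (e.symm x) := fun _ => rfl
  have : IsScalarTower (PowerSeries R) K E := IsScalarTower.of_algebraMap_eq fun x => by
    rw [hK, hE, ← IsScalarTower.algebraMap_apply]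
  have : IsFractionRing (PowerSeries R) K := IsFractionRing.of_ringEquiv_left eK fun _ => rfl
  have hev : ∀ p : B[X], aeval θ (p.map (e : B →+* PowerSeries R)) = aeval θ p := by
    intro p
    rw [aeval_def, aeval_def, eval₂_map]
    congr 1
    ext x
    change algebraMap B E (e.symm (e x)) = _
    rw [e.symm_apply_apply]
  obtain ⟨L₀, i1, i2, i3, i4, i5, φ, h1, h2, h3⟩ := Groth.Agent.Etdl.H436.AlgMain.main R K E θ
    (P.map (e : B →+* PowerSeries R)) (hP.map _) (by rw [hev, hθ]) (by rw [hP.natDegree_map, hdeg]) hgen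
    (a.map (e : B →+* PowerSeries R)) (b.map (e : B →+* PowerSeries R)) (e g)
    (by
      rw [derivative_map, ← Polynomial.map_mul, ← Polynomial.map_mul, ← Polynomial.map_add, hab, map_C]
      rfl) he
    (by
      rw [mem_maximalIdeal, mem_nonunits_iff]
      intro h
      have h1 : IsUnit g := by
        have := h.map e.symm
        rwa [e.symm_apply_apply] at this
      rw [hg'] at h1
      exact (mem_maximalIdeal t).1 htm (isUnit_of_mul_isUnit_left h1))
  have hBr : ∀ x : B, algebraMap B E x ∈ φ.range := fun x => by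
    refine ⟨(e x) ⊗ₜ 1, ?_⟩
    rw [h2, hE, e.symm_apply_apply]
  refine ⟨L₀, i1, i2, i3, i4, i5, φ, h1, hBr, fun s hs => ?_⟩
  obtain ⟨p, hp⟩ := hS s hs
  obtain ⟨y, hy⟩ := h3 (p.map (e : B →+* PowerSeries R))
  have hgE : algebraMap B E g ≠ 0 := by
    rw [IsScalarTower.algebraMap_apply B K E]
    exact (map_ne_zero_iff _ (algebraMap K E).injective).2
      ((map_ne_zero_iff _ (IsFractionRing.injective B K)).2 hg0)
  rw [hev, ← hp, hE, e.symm_apply_apply] at hy
  exact ⟨y, mul_right_cancel₀ hgE hy⟩

end Groth.Agent.Etdl.H428.CdUpAlg
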