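import Mathlib.FieldTheory.IsSepClosed
import Mathlib.FieldTheory.Perfect
import Mathlib.FieldTheory.Finite.Basic

/-!
# An algebraically closed subfield of a separably closed field

The relative separable closure of the prime field in a separably closed field is algebraically closed.
-/

set_option autoImplicit false
universe u

namespace Groth.Agent.Etdl.H428.PrimeSub

/-- The prime field is perfect. -/
theorem perfectField_bot (k : Type u) [Field k] : PerfectField (⊥ : Subfield k) := by
  obtain ⟨p, hp⟩ := CharP.exists k
  rcases CharP.char_is_prime_or_zero k p with hprime | rfl
  · have : Fact p.Prime := ⟨hprime⟩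
    have : Fintype (⊥ : Subfield k) := Subfield.fintypeBot k p
    exact PerfectField.ofFinite
  · have : CharZero k := CharP.charP_to_charZero k
    have : CharZero (⊥ : Subfield k) := inferInstance
    exact PerfectField.ofCharZero

/-- A separably closed field contains an algebraically closed field. -/
theorem exists_algClosed (k : Type u) [Field k] [IsSepClosed k] :
    ∃ (k₀ : Type u) (_ : Field k₀) (_ : Algebra k₀ k), IsAlgClosed k₀ := by
  have := perfectField_bot k
  let P := (⊥ : Subfield k)
  have h1 : IsSepClosure P (separableClosure P k) := inferInstance
  have h2 : IsSepClosed (separableClosure P k) := h1.sep_closed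
  have h3 : PerfectField (separableClosure P k) := Algebra.IsAlgebraic.perfectField P
  exact ⟨separableClosure P k, inferInstance, inferInstance, inferInstance⟩

end Groth.Agent.Etdl.H428.PrimeSub
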