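import Groth.Prelude.Def_Found
import Groth.Prelude.Def_CAlgX

import Groth.Agent.S2036
import Mathlib.RingTheory.Derivation.Basic

/-!
# Regularity of `F[t] → A`, `t ↦ x`, from a derivation

`F` a perfect field, `A` a Noetherian `F`-algebra, `x : A`, `D` an `F`-derivation of `A` with `D x = 1`.

* `isAdicFormallySmooth_of_derivation` : a local ring `T` of `A` at a prime `Q` which is an algebra over
  `K = Frac F[t]` is formally smooth over `K` for the adic topology if it is so over `F`.
-/

set_option autoImplicit false
universe u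

namespace Groth.Agent.Etdl.H428.RegPar

open Polynomial IsLocalRing TensorProduct

section FormallySmooth

variable {F K A T : Type u} [Field F] [Field K] [CommRing A] [CommRing T]
  [Algebra F A] [Algebra F[X] A] [IsScalarTower F F[X] A]
  [Algebra F K] [Algebra F[X] K] [IsScalarTower F F[X] K] [IsFractionRing F[X] K]
  [Algebra A T] [Algebra K T] [Algebra F T] [IsScalarTower F K T] [IsScalarTower F A T]
  (Q : Ideal A) [Q.IsPrime] [IsLocalization.AtPrime T Q]
  (hcomp : (algebraMap A T).comp (algebraMap F[X] A) = (algebraMap K T).comp (algebraMap F[X] K))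

include Q hcomp

/-- Formal smoothness over `F(t)` from formal smoothness over `F` and a derivation not killing `x`. -/
theorem isAdicFormallySmooth_of_derivation (D : Derivation F A A)
    (hD : D (algebraMap F[X] A X) = 1) (𝔫 : Ideal T) (h : CAlgX.IsAdicFormallySmooth F T 𝔫) :
    CAlgX.IsAdicFormallySmooth K T 𝔫 := by
  intro C _ _ J hJ ψ hψ
  let _ : Algebra F C := Algebra.compHom C (algebraMap F K)
  have htow : IsScalarTower F K C := .of_algebraMap_eq fun _ => rfl
  have htow2 : IsScalarTower F K (C ⧸ J) := .of_algebraMap_eq fun _ => rfl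
  obtain ⟨χ₀, hχ₀⟩ := h C J hJ (ψ.restrictScalars F) hψ
  have hχ₀' : ∀ a : T, Ideal.Quotient.mk J (χ₀ a) = ψ a := fun a => DFunLike.congr_fun hχ₀ a
  have hJ2 : ∀ a ∈ J, ∀ b ∈ J, a * b = 0 := by
    intro a ha b hb
    have : a * b ∈ J ^ 2 := by rw [pow_two]; exact Ideal.mul_mem_mul ha hb
    rwa [hJ, Ideal.mem_bot] at this
  -- the defect
  let x : A := algebraMap F[X] A X
  let n : C := algebraMap K C (algebraMap F[X] K X) - χ₀ (algebraMap A T x)
  have hn : n ∈ J := by
    rw [← Ideal.Quotient.eq_zero_iff_mem, map_sub, hχ₀', sub_eq_zero]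
    have h1 : algebraMap A T x = algebraMap K T (algebraMap F[X] K X) := RingHom.congr_fun hcomp X
    rw [h1, AlgHom.commutes]
    rfl
  have hnn : n * n = 0 := hJ2 n hn n hn
  -- the modified map on `A`
  let g : A →+* C := (χ₀ : T →+* C).comp (algebraMap A T)
  let χA : A →+* C :=
    { toFun := fun a => g a + n * g (D a)
      map_one' := by simp
      map_mul' := by
        intro a b
        simp only [Derivation.leibniz, smul_eq_mul, map_add, map_mul]
        linear_combination (- g (D a) * g (D b)) * hnn
      map_zero' := by simp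
      map_add' := by
        intro a b
        simp only [map_add]
        ring }
  have hχA : ∀ a, χA a = g a + n * g (D a) := fun _ => rfl
  have hmk : ∀ a, Ideal.Quotient.mk J (χA a) = ψ (algebraMap A T a) := by
    intro a
    rw [hχA, map_add, map_mul, Ideal.Quotient.eq_zero_iff_mem.2 hn, zero_mul, add_zero]
    exact hχ₀' _
  have hunit : ∀ c : C, IsUnit (Ideal.Quotient.mk J c) → IsUnit c := by
    intro c hc
    obtain ⟨d', hd'⟩ := hc.exists_right_inv
    obtain ⟨d, rfl⟩ := Ideal.Quotient.mk_surjective d'
    have hj : c * d - 1 ∈ J := by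
      rw [← Ideal.Quotient.eq_zero_iff_mem, map_sub, map_mul, hd', map_one, sub_self]
    have h2 := hJ2 _ hj _ hj
    refine IsUnit.of_mul_eq_one (d * (2 - c * d)) ?_
    linear_combination -h2
  have hχu : ∀ a : Q.primeCompl, IsUnit (χA a) := by
    intro a
    apply hunit
    rw [hmk]
    exact (IsLocalization.map_units T a).map ψ
  let χ : T →+* C := IsLocalization.lift (M := Q.primeCompl) hχu
  have hχ : ∀ a, χ (algebraMap A T a) = χA a := fun a => IsLocalization.lift_eq hχu a
  have hK : χ.comp (algebraMap K T) = algebraMap K C := by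
    apply IsLocalization.ringHom_ext (nonZeroDivisors F[X])
    have h1 : (χ.comp (algebraMap K T)).comp (algebraMap F[X] K) = χA.comp (algebraMap F[X] A) := by
      rw [RingHom.comp_assoc, ← hcomp]
      ext1
      · ext a; simp [hχ]
      · simp [hχ]
    rw [h1]
    apply Polynomial.ringHom_ext
    · intro a
      have e1 : algebraMap F[X] A (Polynomial.C a) = algebraMap F A a :=
        (IsScalarTower.algebraMap_apply F F[X] A a).symm
      have e2 : algebraMap F[X] K (Polynomial.C a) = algebraMap F K a :=
        (IsScalarTower.algebraMap_apply F F[X] K a).symm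
      rw [RingHom.comp_apply, RingHom.comp_apply, e1, e2, hχA, Derivation.map_algebraMap, map_zero,
        mul_zero, add_zero]
      change χ₀ (algebraMap A T (algebraMap F A a)) = _
      rw [← IsScalarTower.algebraMap_apply, AlgHom.commutes, IsScalarTower.algebraMap_apply F K C]
    · rw [RingHom.comp_apply, RingHom.comp_apply, hχA, hD, map_one, mul_one]
      change χ₀ (algebraMap A T x) + (algebraMap K C (algebraMap F[X] K X) - χ₀ (algebraMap A T x)) = _
      ring
  refine ⟨{ χ with commutes' := fun a => RingHom.congr_fun hK a }, ?_⟩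
  have h3 : ((Ideal.Quotient.mk J).comp χ : T →+* C ⧸ J) = (ψ : T →+* C ⧸ J) := by
    apply IsLocalization.ringHom_ext Q.primeCompl
    ext a
    simp only [RingHom.comp_apply]
    rw [hχ, hmk]
    rfl
  exact AlgHom.ext fun a => RingHom.congr_fun h3 a

end FormallySmooth

end Groth.Agent.Etdl.H428.RegPar
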