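import Groth.Agent.Etdl.H428.RegPar
import Groth.Agent.CalgB.RegHom8
import Groth.Agent.CalgB.GeomRegIff
import Groth.Agent.CalgA.RegBasic
import Mathlib.RingTheory.Flat.TorsionFree
import Mathlib.RingTheory.TensorProduct.Quotient
import Mathlib.FieldTheory.Perfect

/-!
# `F[t] → A`, `t ↦ x` is a regular homomorphism

`F` perfect, `A` a regular local `F`-algebra, `x` in the maximal ideal, `D` an `F`-derivation of `A`
with `D x = 1`: then `F[t] → A` is a regular homomorphism.
-/

set_option autoImplicit false
universe u

namespace Groth.Agent.Etdl.H428.RegPar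

open Polynomial IsLocalRing TensorProduct
open Groth.Agent.CalgB Groth.Agent.CalgB.RegHom6

/-- A regular algebra over a perfect field is geometrically regular. -/
theorem isGeometricallyRegular_of_perfectField (F B : Type u) [Field F] [PerfectField F] [CommRing B]
    [Algebra F B] [IsRegularRing B] : CAlg.IsGeometricallyRegular F B := by
  intro k' _ _ _
  exact RegHom3.isRegularRing_tensor_of_perfectField

/-- A subsingleton ring is regular. -/
theorem isRegularRing_of_subsingleton (B : Type u) [CommRing B] [Subsingleton B] : IsRegularRing B := by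
  have : IsNoetherianRing B := inferInstance
  rw [isRegularRing_iff]
  intro p hp
  exact absurd (Subsingleton.elim p ⊤) hp.ne_top

section

variable {F A : Type u} [Field F] [CommRing A] [IsRegularLocalRing A]
  [Algebra F A] [Algebra F[X] A] [IsScalarTower F F[X] A]

/-- A polynomial with nonzero constant term becomes a unit. -/
theorem isUnit_of_coeff_zero (hx : algebraMap F[X] A X ∈ maximalIdeal A) (q : F[X])
    (hq : q.coeff 0 ≠ 0) : IsUnit (algebraMap F[X] A q) := by
  have h1 : algebraMap F[X] A q = algebraMap F[X] A X * algebraMap F[X] A q.divX +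
      algebraMap F A (q.coeff 0) := by
    rw [IsScalarTower.algebraMap_apply F F[X] A, ← map_mul, ← map_add]
    congr 1
    rw [Polynomial.algebraMap_eq]
    exact (Polynomial.X_mul_divX_add q).symm
  by_contra h
  have h2 : algebraMap F[X] A q ∈ maximalIdeal A := h
  rw [h1, (maximalIdeal A).add_mem_iff_right ((maximalIdeal A).mul_mem_right _ hx)] at h2
  exact h2 ((isUnit_iff_ne_zero.2 hq).map (algebraMap F A))

/-- A nonzero polynomial is a power of `X` times a polynomial with nonzero constant term. -/
theorem exists_eq_X_pow_mul (f : F[X]) (hf : f ≠ 0) : ∃ (n : ℕ) (q : F[X]), f = X ^ n * q ∧ q.coeff 0 ≠ 0 := by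
  obtain ⟨q, h1, h2⟩ := Polynomial.exists_eq_pow_rootMultiplicity_mul_and_not_dvd f hf 0
  rw [map_zero, sub_zero] at h1 h2
  exact ⟨_, q, h1, fun h => h2 (Polynomial.X_dvd_iff.2 h)⟩

variable (D : Derivation F A A) (hD : D (algebraMap F[X] A X) = 1)
  (hx : algebraMap F[X] A X ∈ maximalIdeal A)

include D hD

omit [IsScalarTower F F[X] A] in
theorem notMem_sq : algebraMap F[X] A X ∉ maximalIdeal A ^ 2 := by
  intro h
  have key : ∀ y ∈ maximalIdeal A ^ 2, D y ∈ maximalIdeal A := by
    intro y hy
    rw [pow_two] at hy
    refine Submodule.mul_induction_on hy ?_ ?_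
    · intro a ha b hb
      rw [Derivation.leibniz]
      exact (maximalIdeal A).add_mem ((maximalIdeal A).mul_mem_right _ ha)
        ((maximalIdeal A).mul_mem_right _ hb)
    · intro a b ha hb
      rw [map_add]
      exact (maximalIdeal A).add_mem ha hb
  have h1 := key _ h
  rw [hD] at h1
  exact (Ideal.ne_top_iff_one _).1 (maximalIdeal.isMaximal A).ne_top h1

omit [IsScalarTower F F[X] A] in
theorem algebraMap_X_ne_zero : algebraMap F[X] A X ≠ 0 := fun h => notMem_sq D hD (by rw [h]; exact zero_mem _)

include hx

theorem algebraMap_ne_zero (f : F[X]) (hf : f ≠ 0) : algebraMap F[X] A f ≠ 0 := by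
  have : IsDomain A := CalgA.RegBasic.isDomain A
  obtain ⟨n, q, rfl, hq⟩ := exists_eq_X_pow_mul f hf
  rw [map_mul, map_pow]
  exact mul_ne_zero (pow_ne_zero _ (algebraMap_X_ne_zero D hD)) (isUnit_of_coeff_zero hx q hq).ne_zero

theorem flat : Module.Flat F[X] A := by
  have : IsDomain A := CalgA.RegBasic.isDomain A
  have : FaithfulSMul F[X] A := by
    rw [faithfulSMul_iff_algebraMap_injective, injective_iff_map_eq_zero]
    intro f hf
    by_contra hne
    exact algebraMap_ne_zero D hD hx f hne hf
  have : Module.IsTorsionFree F[X] A := FaithfulSMul.to_isTorsionFree F[X] A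
  infer_instance

/-- The fibres at nonzero primes. -/
theorem isRegularRing_quotient (p : Ideal F[X]) [hp : p.IsPrime] (hp0 : p ≠ ⊥) :
    IsRegularRing (A ⧸ p.map (algebraMap F[X] A)) := by
  by_cases hX : X ∈ p
  · have h1 : p = Ideal.span {X} := by
      have hm : (Ideal.span {(X : F[X])}).IsMaximal :=
        PrincipalIdealRing.isMaximal_of_irreducible Polynomial.irreducible_X
      exact (hm.eq_of_le hp.ne_top (by rwa [Ideal.span_singleton_le_iff_mem])).symm
    rw [h1, Ideal.map_span, Set.image_singleton]
    have h2 := (CalgA.RegBasic.quotient_of_notMem_sq _ hx (notMem_sq D hD)).1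
    exact GeomRegIff.isRegularRing_of_isRegularLocalRing _
  · obtain ⟨f, hf, hf0⟩ := Submodule.exists_mem_ne_zero_of_ne_bot hp0
    obtain ⟨n, q, rfl, hq⟩ := exists_eq_X_pow_mul f hf0
    have hqp : q ∈ p := (hp.mem_or_mem hf).resolve_left fun h => hX (hp.mem_of_pow_mem _ h)
    have h3 : p.map (algebraMap F[X] A) = ⊤ :=
      Ideal.eq_top_of_isUnit_mem _ (Ideal.mem_map_of_mem _ hqp) (isUnit_of_coeff_zero hx q hq)
    have : Subsingleton (A ⧸ p.map (algebraMap F[X] A)) := by
      rw [h3]; infer_instance
    exact isRegularRing_of_subsingleton _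

/-- The tensor product with a field killing a nonzero polynomial is regular. -/
theorem isRegularRing_tensor_of_not_injective [PerfectField F] (K' : Type u) [Field K'] [Algebra F[X] K']
    [Algebra.EssFiniteType F[X] K'] (hK : RingHom.ker (algebraMap F[X] K') ≠ ⊥) :
    IsRegularRing (K' ⊗[F[X]] A) := by
  let p : Ideal F[X] := RingHom.ker (algebraMap F[X] K')
  have hp : p.IsPrime := RingHom.ker_isPrime _
  have hm : p.IsMaximal := hp.isMaximal hK
  let _ : Field (F[X] ⧸ p) := Ideal.Quotient.field p
  have hr := isRegularRing_quotient D hD hx p hK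
  have hr2 : IsRegularRing ((F[X] ⧸ p) ⊗[F[X]] A) :=
    IsRegularRing.of_ringEquiv (Algebra.TensorProduct.quotIdealMapEquivQuotTensor A p).toRingEquiv
  -- the residue field is perfect
  have hperf : PerfectField (F[X] ⧸ p) := by
    obtain ⟨f, hf, hf0⟩ := Submodule.exists_mem_ne_zero_of_ne_bot hK
    have h0 : IsAlgebraic F (Ideal.Quotient.mk p X) := by
      refine ⟨f, hf0, ?_⟩
      have : aeval (Ideal.Quotient.mk p X) f = Ideal.Quotient.mkₐ F p f := by
        have h1 : (aeval (Ideal.Quotient.mk p X) : F[X] →ₐ[F] _) = Ideal.Quotient.mkₐ F p := by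
          apply Polynomial.algHom_ext
          simp
        rw [h1]
      rw [this]
      exact Ideal.Quotient.eq_zero_iff_mem.2 hf
    have h2 : Algebra.IsAlgebraic F (F[X] ⧸ p) := by
      have h3 : Algebra.adjoin F {Ideal.Quotient.mk p X} = ⊤ := by
        rw [eq_top_iff]
        rintro y -
        obtain ⟨g, rfl⟩ := Ideal.Quotient.mk_surjective y
        rw [Algebra.adjoin_singleton_eq_range_aeval]
        refine ⟨g, ?_⟩
        have h1 : (aeval (Ideal.Quotient.mk p X) : F[X] →ₐ[F] _) = Ideal.Quotient.mkₐ F p := by
          apply Polynomial.algHom_ext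
          simp
        exact DFunLike.congr_fun h1 g
      have h4 := Algebra.isAlgebraic_adjoin_singleton_iff.2 h0
      rw [h3] at h4
      exact ⟨fun y => h4 y trivial⟩
    exact Algebra.IsAlgebraic.perfectField F
  let f : (F[X] ⧸ p) →+* K' := Ideal.Quotient.lift p (algebraMap F[X] K') (fun a ha => ha)
  let _ : Algebra (F[X] ⧸ p) K' := f.toAlgebra
  have htow : IsScalarTower F[X] (F[X] ⧸ p) K' := .of_algebraMap_eq fun _ => rfl
  have hess : Algebra.EssFiniteType (F[X] ⧸ p) K' := Algebra.EssFiniteType.of_comp F[X] _ _
  have h5 : IsRegularRing (K' ⊗[F[X] ⧸ p] ((F[X] ⧸ p) ⊗[F[X]] A)) :=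
    RegHom3.isRegularRing_tensor_of_perfectField
  exact IsRegularRing.of_ringEquiv
    (Algebra.TensorProduct.cancelBaseChange F[X] (F[X] ⧸ p) K' K' A).toRingEquiv


omit hD hx in
/-- Geometric regularity of the local rings of the generic fibre, in characteristic `p`. -/
theorem fieldFib_local [PerfectField F] (hD : D (algebraMap F[X] A X) = 1) (K : Type u) [Field K]
    [Algebra F K] [Algebra F[X] K]
    [IsScalarTower F F[X] K] [IsFractionRing F[X] K] (T : Type u) [CommRing T] [IsLocalRing T]
    [Algebra A T] [Algebra K T]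
    (Q : Ideal A) [Q.IsPrime] [IsLocalization.AtPrime T Q]
    (hcomp : (algebraMap A T).comp (algebraMap F[X] A) = (algebraMap K T).comp (algebraMap F[X] K)) :
    FieldFib K T := by
  have : IsRegularRing A := GeomRegIff.isRegularRing_of_isRegularLocalRing A
  have hT : IsRegularRing T := RegHom1.isRegularRing_of_isLocalization Q.primeCompl T
  obtain ⟨p, hp⟩ := CharP.exists F
  intro K' _ _ _
  rcases CharP.char_is_prime_or_zero F p with hprime | rfl
  · let _ : Algebra F T := Algebra.compHom T (algebraMap F K)
    have htow : IsScalarTower F K T := .of_algebraMap_eq fun _ => rfl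
    have htow2 : IsScalarTower F A T := .of_algebraMap_eq fun a => by
      change algebraMap K T (algebraMap F K a) = _
      rw [IsScalarTower.algebraMap_apply F F[X] K, IsScalarTower.algebraMap_apply F F[X] A]
      exact (RingHom.congr_fun hcomp _).symm
    have : Fact p.Prime := ⟨hprime⟩
    have hpK : CharP K p := charP_of_injective_algebraMap (algebraMap F K).injective p
    have h1 : CAlgX.IsAdicFormallySmooth F T (maximalIdeal T) :=
      (Groth.Agent.S2036.result p).mp (isGeometricallyRegular_of_perfectField F T)
    have h2 := isAdicFormallySmooth_of_derivation (K := K) Q hcomp D hD _ h1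
    have h3 : CAlg.IsGeometricallyRegular K T := (Groth.Agent.S2036.result p).mpr h2
    exact RegHom5.isRegularRing_tensor_of_essFiniteType K' h3
  · have : CharZero F := CharP.charP_to_charZero F
    have : CharZero K := charZero_of_injective_algebraMap (algebraMap F K).injective
    exact RegHom3.isRegularRing_tensor_of_perfectField

/-- The tensor product with a field extension of `F(t)`. -/
theorem isRegularRing_tensor_of_injective [PerfectField F] (K' : Type u) [Field K'] [Algebra F[X] K']
    [Algebra.EssFiniteType F[X] K'] (hK : RingHom.ker (algebraMap F[X] K') = ⊥) :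
    IsRegularRing (K' ⊗[F[X]] A) := by
  let K := FractionRing F[X]
  have hinj : Function.Injective (algebraMap F[X] K') := (RingHom.injective_iff_ker_eq_bot _).2 hK
  let f : K →+* K' := IsFractionRing.lift hinj
  let _ : Algebra K K' := f.toAlgebra
  have htow : IsScalarTower F[X] K K' := .of_algebraMap_eq fun a => (IsFractionRing.lift_algebraMap hinj a).symm
  have hess : Algebra.EssFiniteType K K' := Algebra.EssFiniteType.of_comp F[X] _ _
  have hN : IsNoetherianRing (K ⊗[F[X]] A) := isNoetherianRing_tensor F[X] K A
  have key : FieldFib K (K ⊗[F[X]] A) := by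
    apply RegHom8.fieldFib_of_localization_maximal
    intro m hm
    let _ : Algebra A (K ⊗[F[X]] A) := Algebra.TensorProduct.rightAlgebra
    have : IsLocalization.AtPrime (Localization.AtPrime m) (m.comap (algebraMap A (K ⊗[F[X]] A))) :=
      IsLocalization.isLocalization_isLocalization_atPrime_isLocalization
        (Algebra.algebraMapSubmonoid A (nonZeroDivisors F[X])) (Localization.AtPrime m) m
    refine fieldFib_local D hD K (Localization.AtPrime m) (m.comap (algebraMap A (K ⊗[F[X]] A))) ?_
    rw [IsScalarTower.algebraMap_eq A (K ⊗[F[X]] A) (Localization.AtPrime m),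
      IsScalarTower.algebraMap_eq K (K ⊗[F[X]] A) (Localization.AtPrime m), RingHom.comp_assoc,
      RingHom.comp_assoc]
    congr 1
    refine RingHom.ext fun a => ?_
    change (1 : K) ⊗ₜ[F[X]] (algebraMap F[X] A a) = (algebraMap F[X] K a) ⊗ₜ[F[X]] (1 : A)
    rw [Algebra.algebraMap_eq_smul_one, Algebra.algebraMap_eq_smul_one, TensorProduct.smul_tmul]
  have h1 : IsRegularRing (K' ⊗[K] (K ⊗[F[X]] A)) := key K' inferInstance
  exact IsRegularRing.of_ringEquiv (Algebra.TensorProduct.cancelBaseChange F[X] K K' K' A).toRingEquiv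

/-- `F[t] → A` is a regular homomorphism. -/
theorem isRegularHom_of_derivation [PerfectField F] : CAlg.IsRegularHom F[X] A := by
  rw [isRegularHom_iff]
  refine ⟨flat D hD hx, fun K' _ _ _ => ?_⟩
  by_cases hK : RingHom.ker (algebraMap F[X] K') = ⊥
  · exact isRegularRing_tensor_of_injective D hD hx K' hK
  · exact isRegularRing_tensor_of_not_injective D hD hx K' hK

end

end Groth.Agent.Etdl.H428.RegPar
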