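import Groth.Agent.Sga4h.EtLim
import Groth.Agent.Proet.FacInd
import Groth.Agent.S0595
import Mathlib.AlgebraicGeometry.Morphisms.Smooth

/-!
# Directed limits of smooth schemes

`IsSmLim h` : the morphism `h : X' ⟶ X` is a directed limit of smooth `X`-schemes with affine transition
morphisms (in the form used by S0672).

* `isSmLim_of_indSmooth` : `Spec L ⟶ Spec R` for an ind-smooth algebra;
* `isSmLim_of_isRegularHom` : `Spec L ⟶ Spec R` for a regular homomorphism `R → L` of Noetherian rings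
  (Popescu, S0595);
* `IsSmLim.of_isPullback` : base change along an arbitrary morphism.
-/

set_option autoImplicit false

universe u

open CategoryTheory CategoryTheory.Limits AlgebraicGeometry Opposite

namespace Groth.Agent.Etdl.H428.SmLim

open Groth.Agent.Proet.FacM Groth.Agent.Proet.FacInd Groth.Agent.Sga4h

/-- `h : X' ⟶ X` is a directed limit of smooth `X`-schemes with affine transition morphisms. -/
def IsSmLim {X' X : Scheme.{u}} (h : X' ⟶ X) : Prop :=
  ∃ (ι : Type u) (_ : PartialOrder ι) (_ : IsDirected ι (· ≤ ·)) (_ : Nonempty ι)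
    (D : ιᵒᵖ ⥤ Over X) (π : (Functor.const ιᵒᵖ).obj X' ⟶ D ⋙ Over.forget X)
    (_ : IsLimit (Cone.mk X' π)), (∀ i, Smooth (D.obj i).hom) ∧
      (∀ ⦃a b : ιᵒᵖ⦄ (u : a ⟶ b), IsAffineHom (D.map u).left) ∧ ∀ i, π.app i ≫ (D.obj i).hom = h

theorem isSmLim_mk {X' X : Scheme.{u}} (h : X' ⟶ X) {ι : Type u} [PartialOrder ι]
    [IsDirected ι (· ≤ ·)] [Nonempty ι] (D : ιᵒᵖ ⥤ Over X) (c : Cone (D ⋙ Over.forget X))
    (hc : IsLimit c) (e : X' ≅ c.pt) (h1 : ∀ i, Smooth (D.obj i).hom)
    (h2 : ∀ ⦃a b : ιᵒᵖ⦄ (u : a ⟶ b), IsAffineHom (D.map u).left)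
    (h3 : ∀ i, e.hom ≫ c.π.app i ≫ (D.obj i).hom = h) :
    IsSmLim h :=
  ⟨ι, inferInstance, inferInstance, inferInstance, D, (c.extend e.hom).π,
    IsLimit.ofIsoLimit hc (Cone.ext e (fun _ => rfl)).symm, h1, h2, fun i =>
      (Category.assoc _ _ _).trans (h3 i)⟩

/-- Smooth algebras. -/
abbrev Sm (A : Type u) [CommRing A] : ∀ (W : Type u) [CommRing W] [Algebra A W], Prop :=
  fun W _ _ => Algebra.Smooth A W

theorem good_sm {A : Type u} [CommRing A] : Good (Sm A) where
  iso W W' _ _ _ _ e h := by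
    have : Algebra.Smooth A W := h
    exact Algebra.Smooth.of_equiv e
  fp W _ _ h := by
    have : Algebra.Smooth A W := h
    infer_instance

theorem isSmLim_of_isInd {A B : Type u} [CommRing A] [CommRing B] [Algebra A B]
    (h : IsInd A (Sm A) B) {X : Scheme.{u}} (j : Spec (CommRingCat.of A) ⟶ X)
    [IsOpenImmersion j] :
    IsSmLim (Spec.map (CommRingCat.ofHom (algebraMap A B)) ≫ j) := by
  obtain ⟨J, _, _, F, c, hc, hF, ⟨e⟩⟩ := h
  obtain ⟨ι, _, _, _, G, _⟩ := IsFiltered.exists_directed J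
  have hc' : IsColimit (c.whisker G) := (Functor.Final.isColimitWhiskerEquiv G c).symm hc
  refine isSmLim_mk _ (EtLim.diag (G ⋙ F) j)
    (EtLim.cone (G ⋙ F) j (c.whisker G)) (EtLim.isLimitCone (G ⋙ F) j hc')
    (Scheme.Spec.mapIso ((Under.forget _).mapIso e).op) ?_ ?_ ?_
  · intro i
    have h1 : Smooth (Spec.map ((G ⋙ F).obj i.unop).hom) := by
      rw [HasRingHomProperty.Spec_iff (P := @Smooth)]
      exact hF _
    change Smooth (Spec.map ((G ⋙ F).obj i.unop).hom ≫ j)
    infer_instance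
  · intro a b u
    change IsAffineHom (Spec.map ((G ⋙ F).map u.unop).right)
    infer_instance
  · intro i
    change Spec.map e.hom.right ≫ Spec.map (c.ι.app (G.obj i.unop)).right ≫
      Spec.map (F.obj (G.obj i.unop)).hom ≫ j = _
    rw [← Category.assoc, ← Category.assoc, ← Spec.map_comp, ← Spec.map_comp]
    congr 2
    rw [← Category.assoc]
    have h1 := Under.w (c.ι.app (G.obj i.unop))
    have h2 := Under.w e.hom
    rw [h1]
    exact h2

/-- The spectrum of an ind-smooth algebra is a directed limit of smooth affine schemes. -/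
theorem isSmLim_of_indSmooth {R L : Type u} [CommRing R] [CommRing L] [Algebra R L]
    (h : Smoothing.IndSmooth R L) {X : Scheme.{u}}
    (j : Spec (CommRingCat.of R) ⟶ X) [IsOpenImmersion j] :
    IsSmLim (Spec.map (CommRingCat.ofHom (algebraMap R L)) ≫ j) := by
  refine isSmLim_of_isInd (Fac.isInd good_sm ?_) j
  intro Z _ _ hZ g
  obtain ⟨B, _, _, hB, a, b, hab⟩ := h Z hZ g
  exact ⟨B, inferInstance, inferInstance, a, b, hB, hab⟩

/-- Popescu: a regular homomorphism of Noetherian rings is ind-smooth. -/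
theorem indSmooth_of_isRegularHom {R L : Type u} [CommRing R] [CommRing L] [IsNoetherianRing R]
    [IsNoetherianRing L] [Algebra R L] (h : CAlg.IsRegularHom R L) : Smoothing.IndSmooth R L := by
  intro Z _ _ hZ g
  exact Groth.Agent.S0595.result R L h Z g

/-- Popescu: the spectrum of a regular homomorphism is a directed limit of smooth affine schemes. -/
theorem isSmLim_of_isRegularHom {R L : Type u} [CommRing R] [CommRing L] [IsNoetherianRing R]
    [IsNoetherianRing L] [Algebra R L] (h : CAlg.IsRegularHom R L) {X : Scheme.{u}}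
    (j : Spec (CommRingCat.of R) ⟶ X) [IsOpenImmersion j] :
    IsSmLim (Spec.map (CommRingCat.ofHom (algebraMap R L)) ≫ j) :=
  isSmLim_of_indSmooth (indSmooth_of_isRegularHom h) j

theorem isSmLim_specMap_of_indSmooth {R L : Type u} [CommRing R] [CommRing L] [Algebra R L]
    (h : Smoothing.IndSmooth R L) : IsSmLim (Spec.map (CommRingCat.ofHom (algebraMap R L))) := by
  have := isSmLim_of_indSmooth h (𝟙 (Spec (CommRingCat.of R)))
  rwa [Category.comp_id] at this

/-- Base change along an arbitrary morphism. -/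
theorem IsSmLim.of_isPullback {X' X Z' Z : Scheme.{u}} {h : X' ⟶ X} (H : IsSmLim h) {f : Z ⟶ X}
    {f' : Z' ⟶ X'} {h' : Z' ⟶ Z} (sq : IsPullback h' f' f h) : IsSmLim h' := by
  obtain ⟨ι, _, _, _, D, π, hc, h1, h2, h3⟩ := H
  let T : ιᵒᵖ ⥤ Scheme.{u} := D ⋙ Over.forget X
  let τ : ∀ a : ιᵒᵖ, T.obj a ⟶ X := fun a => (D.obj a).hom
  have hτ : ∀ ⦃a b : ιᵒᵖ⦄ (g : a ⟶ b), T.map g ≫ τ b = τ a := fun a b g => Over.w (D.map g)
  let D' : ιᵒᵖ ⥤ Over Z :=
    { obj := fun i => Over.mk (pullback.fst f (τ i))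
      map := fun g => Over.homMk (Etcore.PullbackSys.mapp T τ hτ f g)
        (Etcore.PullbackSys.mapp_fst T τ hτ f g)
      map_id := fun i => by
        apply Over.OverMorphism.ext
        exact (Etcore.PullbackSys.sys T τ hτ f).map_id i
      map_comp := fun a b => by
        apply Over.OverMorphism.ext
        exact (Etcore.PullbackSys.sys T τ hτ f).map_comp a b }
  let c' : Cone (D' ⋙ Over.forget Z) :=
    { pt := pullback f h
      π := { app := fun i => (Etcore.PullbackSys.cone T τ hτ f (Cone.mk X' π) h h3).π.app i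
             naturality := fun a b g =>
              (Etcore.PullbackSys.cone T τ hτ f (Cone.mk X' π) h h3).π.naturality g } }
  have hc' : IsLimit c' := Etcore.PullbackSys.isLimitCone T τ hτ f (Cone.mk X' π) h h3 hc
  refine isSmLim_mk _ D' c' hc' sq.isoPullback ?_ ?_ ?_
  · intro i
    have h4 : Smooth (τ i) := h1 i
    change Smooth (pullback.fst f (τ i))
    exact MorphismProperty.of_isPullback (P := @Smooth) (IsPullback.of_hasPullback f (τ i)).flip h4
  · intro a b u
    exact Etcore.PullbackSys.isAffineHom_mapp T τ hτ f h2 u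
  · intro i
    change sq.isoPullback.hom ≫ Etcore.PullbackSys.proj T τ f (Cone.mk X' π) h h3 i ≫
      pullback.fst f (τ i) = h'
    rw [Etcore.PullbackSys.proj_fst, IsPullback.isoPullback_hom_fst]

end Groth.Agent.Etdl.H428.SmLim
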