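import Mathlib.AlgebraicGeometry.Pullbacks
import Mathlib.Algebra.Category.Ring.Constructions
import Mathlib.RingTheory.Localization.Away.Basic

/-!
# The cartesian square of principal localizations
-/

set_option autoImplicit false
universe u

open CategoryTheory CategoryTheory.Limits AlgebraicGeometry

namespace Groth.Agent.Etdl.H428.Square

/-- The square `Spec A_x ⟶ Spec R_t` over `Spec A ⟶ Spec R` is cartesian if `t ↦ x`. -/
theorem exists_isPullback (R A : Type u) [CommRing R] [CommRing A] [Algebra R A] (t : R) (x : A)
    (hx : algebraMap R A t = x) :
    ∃ g' : Spec (CommRingCat.of (Localization.Away x)) ⟶ Spec (CommRingCat.of (Localization.Away t)),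
      IsPullback g' (Spec.map (CommRingCat.ofHom (algebraMap A (Localization.Away x))))
        (Spec.map (CommRingCat.ofHom (algebraMap R (Localization.Away t))))
        (Spec.map (CommRingCat.ofHom (algebraMap R A))) := by
  have hu : IsUnit (((algebraMap A (Localization.Away x)).comp (algebraMap R A)) t) := by
    rw [RingHom.comp_apply, hx]
    exact IsLocalization.Away.algebraMap_isUnit x
  let fm : Localization.Away t →+* Localization.Away x := IsLocalization.Away.lift t hu
  have hfm : fm.comp (algebraMap R (Localization.Away t)) =
      (algebraMap A (Localization.Away x)).comp (algebraMap R A) := IsLocalization.Away.lift_comp t hu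
  have hM : (Submonoid.powers t).map (algebraMap R A) = Submonoid.powers x := by
    rw [Submonoid.map_powers]
    exact congrArg Submonoid.powers hx
  have hloc : IsLocalization ((Submonoid.powers t).map (algebraMap R A)) (Localization.Away x) := by
    rw [hM]; infer_instance
  have h1 := CommRingCat.isPushout_of_isLocalization (algebraMap R A) fm hfm (Submonoid.powers t)
  exact ⟨Spec.map (CommRingCat.ofHom fm), (isPullback_SpecMap_of_isPushout _ _ _ _ h1).flip⟩

end Groth.Agent.Etdl.H428.Square
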